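import Groth.Agent.DiagRig.MultLift
import Groth.Agent.DiagRig.ImmLift
import Groth.Agent.GrpdLib.MonoClosedField
import Groth.Agent.MultType.KerHom
import Groth.Agent.MultType.QIGlobal
import Groth.Agent.MultType.AdicLevel

/-! Subgroups of groups of multiplicative type over an algebraically closed field. -/

universe u

open CategoryTheory MonoidalCategory CartesianMonoidalCategory MonObj GrpObj AlgebraicGeometry Limits
open scoped TensorProduct

noncomputable section

namespace Groth.Agent.MaxTorus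

set_option backward.isDefEq.respectTransparency.types false

/-- Multiplicative type is invariant under isomorphisms. -/
theorem isMultTypeFT_of_iso {S : Scheme.{u}} {T T' : Over S} [GrpObj T] [GrpObj T'] (e : T ≅ T') [IsMonHom e.hom]
    (hT : SGA3x.IsMultTypeFT T) : SGA3x.IsMultTypeFT T' := by
  obtain ⟨S', f, h1, h2, h3, h4⟩ := hT
  refine ⟨S', f, h1, h2, h3, fun s => ?_⟩
  obtain ⟨U, hU, M, i, hM, ⟨E⟩⟩ := h4 s
  exact ⟨U, hU, M, i, hM, ⟨((Over.pullback (U.ι ≫ f)).mapGrp.mapIso (Grp.mkIso' e)).symm ≪≫ E⟩⟩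

/-- A subgroup of a group of multiplicative type over an algebraically closed field is of multiplicative type. -/
theorem isMultTypeFT_sub {k : Type u} [Field k] [IsAlgClosed k] {G H : Over (Spec (CommRingCat.of k))}
    [GrpObj G] [GrpObj H] (hG : SGA3x.IsMultTypeFT G) [LocallyOfFiniteType H.hom] [QuasiCompact H.hom]
    (i : H ⟶ G) [IsMonHom i] [Mono i] : SGA3x.IsMultTypeFT H := by
  have := DiagRig.multType_isAffineHom G hG
  have : IsAffine G.left := isAffine_of_isAffineHom G.hom
  have := DiagRig.multType_locallyOfFiniteType G hG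
  obtain ⟨A, B, iA, iB, eG, eH, π, hG', hH', hft, hπ, -⟩ := GrpdLib.MonoClosedField.exists_hopf G H i
  haveI : IsMonHom eG.hom := hG'
  haveI : IsMonHom eH.hom := hH'
  haveI : IsMonHom eG.symm.hom := inferInstanceAs (IsMonHom eG.inv)
  let GA := (Spec (CommRingCat.of A)).asOver (Spec (CommRingCat.of k))
  have hGA : SGA3x.IsMultTypeFT GA := isMultTypeFT_of_iso eG.symm hG
  have := DiagRig.multType_locallyOfFiniteType GA hGA
  have : IsAffine GA.left := isAffine_Spec _
  obtain ⟨A₂, _, _, e₂, he₂, hqi, hft₂, -⟩ := DiagRig.exists_qi_model (R := k) GA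
    (DiagRig.splitLoc_of_locally (DiagRig.locally_of_multTypeFT hGA))
  let φ : (Spec (CommRingCat.of A)).asOver (Spec (CommRingCat.of k)) ⟶
    (Spec (CommRingCat.of A₂)).asOver (Spec (CommRingCat.of k)) := e₂.inv
  haveI : IsMonHom e₂.hom := he₂
  haveI : IsMonHom φ := inferInstanceAs (IsMonHom e₂.inv)
  obtain ⟨v, hv⟩ : ∃ v : Opposite.op (CommHopfAlgCat.of k A) ⟶ Opposite.op (CommHopfAlgCat.of k A₂),
      ((hopfSpec (CommRingCat.of k)).map v).hom.hom = φ := by
    let ψ : (hopfSpec (CommRingCat.of k)).obj (Opposite.op (CommHopfAlgCat.of k A)) ⟶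
        (hopfSpec (CommRingCat.of k)).obj (Opposite.op (CommHopfAlgCat.of k A₂)) :=
      Grp.homMk' (@Mon.Hom.mk _ _ _ _ _ φ ⟨IsMonHom.one_hom φ, IsMonHom.mul_hom φ⟩)
    obtain ⟨v, hv⟩ : ∃ v, (hopfSpec (CommRingCat.of k)).map v = ψ := ⟨_, hopfSpec.fullyFaithful.map_preimage ψ⟩
    exact ⟨v, by rw [hv]; rfl⟩
  let w : A₂ →ₐc[k] A := v.unop.hom
  have hw : Spec.map (CommRingCat.ofHom (w : A₂ →+* A)) = φ.left := congrArg CommaMorphism.left hv
  haveI : Mono (Spec.map (CommRingCat.ofHom (w : A₂ →+* A))) := by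
    rw [hw]; exact inferInstanceAs (Mono ((Over.forget _).map e₂.inv))
  have hws : Function.Surjective w := GrpdLib.MonoClosedField.surjective_of_mono w
  obtain ⟨M, _, ⟨ε⟩⟩ := MultType.QIGlobal.isDiag_of_isSepClosed (MultType.AdicLevel.isMultType_of_qi hqi) hft₂
  let π' : MonoidAlgebra k M →ₐc[k] B := (π.comp w).comp (ε.symm : MonoidAlgebra k M →ₐc[k] A₂)
  have hπ' : Function.Surjective π' := (hπ.comp hws).comp ε.symm.surjective
  obtain ⟨e, -⟩ := MultType.KerHom.exists_equiv_of_indep π' hπ' (MultType.KerHom.indep_of_field π')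
  have hftB : Algebra.FiniteType k B := Algebra.FiniteType.of_surjective (π : A →ₐ[k] B) hπ
  let eB : k ⊗[k] B ≃ₐc[k] MonoidAlgebra k (M ⧸ MultType.KerHom.kerGrp π') :=
    (BialgEquiv.ofAlgEquiv (Algebra.TensorProduct.lid k B)
      (Algebra.TensorProduct.ext (by ext) (by ext a; simp))
      (Algebra.TensorProduct.ext (by ext) (by
        ext a
        simp only [AlgHom.coe_comp, Function.comp_apply, AlgHom.coe_restrictScalars', AlgEquiv.coe_toAlgHom,
          Algebra.TensorProduct.includeRight_apply, Algebra.TensorProduct.lid_tmul, one_smul,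
          Bialgebra.comulAlgHom_apply, TensorProduct.comul_tmul]
        rw [← (Coalgebra.Repr.arbitrary k a).eq]
        simp [TensorProduct.tmul_sum]))).trans e
  have hN := DiagRig.exists_fg_model (R := k) (A := B) (fun K _ _ => inferInstance) eB
  have hB : SGA3x.IsMultTypeFT ((Spec (CommRingCat.of B)).asOver (Spec (CommRingCat.of k))) :=
    DiagRig.isMultTypeFT_spec_of_family (ι₀ := PUnit.{u+1}) (fun _ => k) (fun p => ⟨⟨⟩, p, rfl⟩) fun _ => hN
  exact isMultTypeFT_of_iso eH hB

end Groth.Agent.MaxTorus
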