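import Groth.Agent.MaxTorus.LocalFactor
import Groth.Agent.AbSch51.TorusToProper

/-! Commuting tori factor through a torus if they do so at every geometric point. -/

universe u

open CategoryTheory MonoidalCategory CartesianMonoidalCategory MonObj GrpObj AlgebraicGeometry Limits MorphismProperty
open Groth.Agent.RedPts

noncomputable section

namespace Groth.Agent.MaxTorus

set_option backward.isDefEq.respectTransparency.types false

open DiagRig

variable {S : Scheme.{u}}

/-- Descent of isomorphisms along a covering. -/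
theorem isIso_descend {S' : Scheme.{u}} (f : S' ⟶ S) [Flat f]
    (hcov : ∀ V : S.Opens, IsAffineOpen V → ∃ W : S'.Opens, IsCompact (W : Set S') ∧ f.base '' (W : Set S') = (V : Set S))
    {G H : Over S} (u : G ⟶ H) (h : BCProp (isomorphisms Scheme.{u}) u f) : IsIso u.left := by
  have hV : ∀ V : S.affineOpens, BCProp (isomorphisms Scheme.{u}) u V.1.ι := fun V => by
    obtain ⟨W, hWc, hWV⟩ := hcov V.1 V.2
    have hle : W ≤ f ⁻¹ᵁ V.1 := fun y hy => by
      show f y ∈ (V.1 : Set S)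
      rw [← hWV]
      exact ⟨y, hy, rfl⟩
    let a := f.resLE V.1 W hle
    have : CompactSpace ↥(W : Scheme.{u}) := isCompact_iff_compactSpace.mp hWc
    have : IsAffine (V.1 : Scheme.{u}) := V.2
    have : QuasiCompact a := (HasAffineProperty.iff_of_isAffine (P := @QuasiCompact)).mpr inferInstance
    have : Flat a := inferInstanceAs (Flat (_ ≫ f ∣_ V.1))
    have : Surjective a := ⟨fun y => by
      obtain ⟨w, hw, hwy⟩ : (y.1 : S) ∈ f.base '' (W : Set S') := by rw [hWV]; exact y.2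
      refine ⟨⟨w, hw⟩, Subtype.ext ?_⟩
      have : V.1.ι (a ⟨w, hw⟩) = f w := by
        rw [← Scheme.Hom.comp_apply, Scheme.Hom.resLE_comp_ι]; rfl
      exact this.trans hwy⟩
    refine BCProp.descend (P := isomorphisms Scheme.{u}) a ?_
    rw [bcProp_congr (Scheme.Hom.resLE_comp_ι f hle)]
    exact h.comp W.ι
  have h1 : BCProp (isomorphisms Scheme.{u}) u (𝟙 S) :=
    BCProp.glue (S.openCoverOfIsOpenCover (fun V : S.affineOpens => V.1)
      (TopologicalSpace.IsOpenCover.mk (iSup_affineOpens_eq_top S))) fun V => by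
      rw [bcProp_congr (Category.comp_id _)]
      exact hV V
  have hu : IsIso ((Over.pullback (𝟙 S)).map u).left := h1
  have sq := DiagRig.isPullback_bcMap (𝟙 S) u
  have : IsIso (pullback.fst G.hom (𝟙 S) ≫ u.left) := by rw [sq.w]; infer_instance
  exact IsIso.of_isIso_comp_left (pullback.fst G.hom (𝟙 S)) u.left

/-- A torus commuting with another and lying in it at every geometric point lies in it. -/
theorem exists_factor {G T R : Over S} [GrpObj G] [GrpObj T] [GrpObj R]
    [LocallyOfFinitePresentation G.hom] [QuasiCompact G.hom] [QuasiSeparated G.hom]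
    (hT : Red.IsTorus T) (hR : Red.IsTorus R) (i : T ⟶ G) [IsMonHom i] [Mono i] (j : R ⟶ G) [IsMonHom j]
    (hcomm : ∀ (X : Over S) (t : X ⟶ T) (r : X ⟶ R), (t ≫ i) * (r ≫ j) = (r ≫ j) * (t ≫ i))
    (hfib : ∀ (s : S) (Y : Over (Spec (CommRingCat.of (AlgebraicClosure (S.residueField s)))))
      (r : (Over.map (Red.geomPt s)).obj Y ⟶ R), ∃ t, t ≫ i = r ≫ j) :
    ∃ f : R ⟶ T, f ≫ i = j := by
  obtain ⟨S₁, f₁, hf₁, -, hc₁, hl₁⟩ := hT
  obtain ⟨S₂, f₂, hf₂, -, hc₂, hl₂⟩ := hR
  let π : pullback i j ⟶ R := pullback.snd i j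
  have : Mono π := inferInstance
  suffices hπ : IsIso π.left by
    have : IsIso ((CategoryTheory.Over.forget S).map π) := hπ
    have : IsIso π := isIso_of_reflects_iso π (CategoryTheory.Over.forget S)
    exact ⟨inv π ≫ pullback.fst i j, by rw [Category.assoc, pullback.condition, IsIso.inv_hom_id_assoc]⟩
  refine isIso_descend f₁ hc₁ π ?_
  let p := pullback.snd f₂ f₁
  have : Flat f₂ := hf₂
  have : Flat f₁ := hf₁
  refine isIso_descend p (cov_pullback f₂ f₁ hc₂) ((Over.pullback f₁).map π) ((bcProp_comp_iff p f₁).mp ?_)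
  have key : ∀ z : ↥(pullback f₂ f₁), ∃ O : (pullback f₂ f₁).Opens, z ∈ O ∧
      BCProp (isomorphisms Scheme.{u}) π (O.ι ≫ p ≫ f₁) := fun z => by
    obtain ⟨U₁, hz₁, r₁, hr₁⟩ := hl₁ (p z)
    obtain ⟨U₂, hz₂, r₂, hr₂⟩ := hl₂ (pullback.fst f₂ f₁ z)
    let U : (pullback f₂ f₁).Opens := pullback.fst f₂ f₁ ⁻¹ᵁ U₂ ⊓ p ⁻¹ᵁ U₁
    have hzU : z ∈ U := ⟨hz₂, hz₁⟩
    let k₀ : (U : Scheme.{u}) ⟶ S := U.ι ≫ p ≫ f₁
    obtain ⟨E₁⟩ := SplitSub.isSplit_of_comp (U₁.ι ≫ f₁) (IsOpenImmersion.lift U₁.ι (U.ι ≫ p) (by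
        rintro _ ⟨y, rfl⟩
        rw [Scheme.Opens.range_ι]
        exact y.2.2)) k₀ (by rw [IsOpenImmersion.lift_fac_assoc, Category.assoc]) hr₁
    obtain ⟨E₂⟩ := SplitSub.isSplit_of_comp (U₂.ι ≫ f₂) (IsOpenImmersion.lift U₂.ι (U.ι ≫ pullback.fst f₂ f₁) (by
        rintro _ ⟨y, rfl⟩
        rw [Scheme.Opens.range_ι]
        exact y.2.1)) k₀ (by rw [IsOpenImmersion.lift_fac_assoc, Category.assoc, pullback.condition]) hr₂
    let e₁ : Red.bc k₀ T ≅ Red.DS (U : Scheme.{u}) (Fin r₁ → ℤ) := (Grp.forget _).mapIso E₁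
    let e₂ : Red.bc k₀ R ≅ Red.DS (U : Scheme.{u}) (Fin r₂ → ℤ) := (Grp.forget _).mapIso E₂
    have : IsMonHom e₁.hom := E₁.hom.hom.isMonHom_hom
    have : IsMonHom e₂.hom := E₂.hom.hom.isMonHom_hom
    have := isMonHom_bcMap k₀ i
    have := isMonHom_bcMap k₀ j
    have : LocallyOfFinitePresentation (Red.bc k₀ G).hom :=
      inferInstanceAs (LocallyOfFinitePresentation (pullback.snd G.hom k₀))
    have : QuasiCompact (Red.bc k₀ G).hom := inferInstanceAs (QuasiCompact (pullback.snd G.hom k₀))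
    have : QuasiSeparated (Red.bc k₀ G).hom := inferInstanceAs (QuasiSeparated (pullback.snd G.hom k₀))
    have : Mono ((Over.pullback k₀).map i) := inferInstance
    let zU : ↥(U : Scheme.{u}) := ⟨z, hzU⟩
    let L := AlgebraicClosure ((U : Scheme.{u}).residueField zU)
    let c : Spec (CommRingCat.of L) ⟶ (U : Scheme.{u}) := Red.geomPt zU
    obtain ⟨V, hzV, hV⟩ := exists_local_factor zU e₁ e₂ ((Over.pullback k₀).map i) ((Over.pullback k₀).map j)
      (fun X t r => bcTr_injective k₀ (by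
        rw [bcTr_mul, bcTr_mul, bcTr_map, bcTr_map]
        exact hcomm _ _ _))
      c (fun y => by rw [Scheme.Hom.comp_apply, Scheme.fromSpecResidueField_apply]) (fun Y r => by
        let χ := Scheme.SpecToEquivOfField L S (c ≫ k₀)
        have hk : c ≫ k₀ = Spec.map χ.2 ≫ S.fromSpecResidueField χ.1 :=
          ((Scheme.SpecToEquivOfField _ _).symm_apply_apply (c ≫ k₀)).symm
        letI : Algebra (S.residueField χ.1) L := χ.2.hom.toAlgebra
        let θ : AlgebraicClosure (S.residueField χ.1) →ₐ[S.residueField χ.1] L := IsAlgClosed.lift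
        let b : Spec (CommRingCat.of L) ⟶ Spec (CommRingCat.of (AlgebraicClosure (S.residueField χ.1))) :=
          Spec.map (CommRingCat.ofHom θ.toRingHom)
        have hb : b ≫ Red.geomPt χ.1 = c ≫ k₀ := by
          rw [hk, ← Category.assoc, ← Spec.map_comp]
          congr 2
          ext a
          exact θ.commutes a
        let e : (Over.map (Red.geomPt χ.1)).obj ((Over.map b).obj Y) ≅ (Over.map k₀).obj ((Over.map c).obj Y) :=
          Over.isoMk (Iso.refl _) (by
            show 𝟙 _ ≫ (Y.hom ≫ c) ≫ k₀ = (Y.hom ≫ b) ≫ Red.geomPt χ.1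
            rw [Category.id_comp, Category.assoc, Category.assoc]
            exact congrArg (Y.hom ≫ ·) hb.symm)
        obtain ⟨t, ht⟩ := hfib χ.1 ((Over.map b).obj Y) (e.hom ≫ bcTr k₀ r)
        refine ⟨bcUn k₀ (e.inv ≫ t), bcTr_injective k₀ ?_⟩
        rw [bcTr_map, bcTr_bcUn, bcTr_map, Category.assoc, ht, Category.assoc, Iso.inv_hom_id_assoc])
    let k : (V : Scheme.{u}) ⟶ S := V.ι ≫ k₀
    have hk : BCProp (isomorphisms Scheme.{u}) π k := by
      let Y₀ : Over (U : Scheme.{u}) := Over.mk ((Red.bc k R).hom ≫ V.ι)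
      let e : (Over.map k₀).obj Y₀ ≅ (Over.map k).obj (Red.bc k R) :=
        Over.isoMk (Iso.refl _) (by
          show 𝟙 _ ≫ (Red.bc k R).hom ≫ V.ι ≫ k₀ = ((Red.bc k R).hom ≫ V.ι) ≫ k₀
          rw [Category.id_comp, Category.assoc])
      obtain ⟨t, ht⟩ := hV Y₀ (Red.bc k R).hom rfl (bcUn k₀ (e.hom ≫ bcTr k (𝟙 _)))
      have ht' : bcTr k₀ t ≫ i = (e.hom ≫ bcTr k (𝟙 _)) ≫ j := by
        have := congrArg (bcTr k₀) ht
        rwa [bcTr_map, bcTr_map, bcTr_bcUn] at this
      let σ : Red.bc k R ⟶ Red.bc k (pullback i j) := bcUn k (pullback.lift (e.inv ≫ bcTr k₀ t) (bcTr k (𝟙 _)) (by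
        rw [Category.assoc, ht', Category.assoc, Iso.inv_hom_id_assoc]))
      have hσ : σ ≫ (Over.pullback k).map π = 𝟙 _ := bcTr_injective k (by
        rw [bcTr_map, bcTr_bcUn]; exact pullback.lift_snd _ _ _)
      have : Mono ((Over.pullback k).map π) := inferInstance
      have : IsIso ((Over.pullback k).map π) := ⟨σ, by
        rw [← cancel_mono ((Over.pullback k).map π), Category.assoc, hσ, Category.comp_id, Category.id_comp], hσ⟩
      exact inferInstanceAs (IsIso ((CategoryTheory.Over.forget _).map ((Over.pullback k).map π)))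
    let O : (pullback f₂ f₁).Opens := U.ι ''ᵁ V
    let a : (O : Scheme.{u}) ⟶ (V : Scheme.{u}) := (U.ι.isoImage V).inv
    refine ⟨O, ⟨zU, hzV, rfl⟩, ?_⟩
    have ha : a ≫ k = O.ι ≫ p ≫ f₁ := by simp [a, k, k₀, O]
    rw [← bcProp_congr ha]
    exact hk.comp a
  choose O hzO hO using key
  exact BCProp.glue ((pullback f₂ f₁).openCoverOfIsOpenCover O (TopologicalSpace.IsOpenCover.mk (by
    ext z; simpa using ⟨z, hzO z⟩))) hO

/-- At a geometric point, a torus commuting with a maximal torus lies in it. -/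
theorem factor_geom {G T R : Over S} [GrpObj G] [GrpObj T] [GrpObj R] [LocallyOfFiniteType G.hom]
    (i : T ⟶ G) (hT : Red.IsMaximalTorus i) (hR : Red.IsTorus R) (j : R ⟶ G) [IsMonHom j] (s : S)
    (hcomm : ∀ (X : Over (Spec (CommRingCat.of (AlgebraicClosure (S.residueField s)))))
      (t : (Over.map (Red.geomPt s)).obj X ⟶ T) (r : (Over.map (Red.geomPt s)).obj X ⟶ R),
        (t ≫ i) * (r ≫ j) = (r ≫ j) * (t ≫ i)) :
    ∀ (Y : Over (Spec (CommRingCat.of (AlgebraicClosure (S.residueField s))))) (r : (Over.map (Red.geomPt s)).obj Y ⟶ R),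
      ∃ t, t ≫ i = r ≫ j := by
  obtain ⟨hi, hmono, hTt, hmax⟩ := hT
  intro Y r
  have := isMonHom_bcMap (Red.geomPt s) i
  have := isMonHom_bcMap (Red.geomPt s) j
  have : LocallyOfFiniteType (Red.geomFibre s G).hom :=
    inferInstanceAs (LocallyOfFiniteType (pullback.snd G.hom (Red.geomPt s)))
  obtain ⟨g, hg⟩ := factor_of_maximal (AbSch51.TorusToProper.isTorus_bc _ hTt) (AbSch51.TorusToProper.isTorus_bc _ hR)
    ((Over.pullback (Red.geomPt s)).map i) ((Over.pullback (Red.geomPt s)).map j)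
    (fun T' _ j' _ _ f hT' hf => hmax s T' j' f hT' hf) (fun X t r => bcTr_injective _ (by
      rw [bcTr_mul, bcTr_mul, bcTr_map, bcTr_map]
      exact hcomm _ _ _))
  refine ⟨bcTr (Red.geomPt s) (bcUn (Red.geomPt s) r ≫ g), ?_⟩
  rw [← bcTr_map, Category.assoc, hg, bcTr_map, bcTr_bcUn]

/-- A torus commuting with a maximal torus lies in it. -/
theorem factor_maximalTorus {G T R : Over S} [GrpObj G] [GrpObj T] [GrpObj R]
    [LocallyOfFinitePresentation G.hom] [QuasiCompact G.hom] [QuasiSeparated G.hom]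
    (i : T ⟶ G) (hT : Red.IsMaximalTorus i) (hR : Red.IsTorus R) (j : R ⟶ G) [IsMonHom j]
    (hcomm : ∀ (X : Over S) (t : X ⟶ T) (r : X ⟶ R), (t ≫ i) * (r ≫ j) = (r ≫ j) * (t ≫ i)) :
    ∃ f : R ⟶ T, f ≫ i = j := by
  have := hT.1
  have := hT.2.1
  exact exists_factor hT.2.2.1 hR i j hcomm fun s => factor_geom i hT hR j s fun _ t r => hcomm _ t r

end Groth.Agent.MaxTorus
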