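import Groth.Agent.MaxTorus.Factor
import Groth.Agent.DiagRig.Transporter
import Groth.Agent.GrpScheme.SubgroupObj
import Groth.Prelude.Def_Red2
import Groth.Prelude.Def_SGA3x

/-! Maximal tori and centralisers on geometric fibres. -/

universe u

open CategoryTheory MonoidalCategory CartesianMonoidalCategory MonObj GrpObj AlgebraicGeometry Limits
open Groth.Agent.RedPts

noncomputable section

namespace Groth.Agent.MaxTorus

set_option backward.isDefEq.respectTransparency.types false

open DiagRig

variable {S : Scheme.{u}}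

/-- Over an algebraically closed field the geometric point is an isomorphism. -/
theorem isIso_geomPt {K : Type u} [Field K] [IsAlgClosed K] (y : Spec (CommRingCat.of K)) :
    IsIso (Red.geomPt y) := by
  let g := (Spec (CommRingCat.of K)).fromSpecResidueField y
  have : Subsingleton ↥(Spec (CommRingCat.of K)) := inferInstanceAs (Subsingleton (PrimeSpectrum K))
  have hsurj : Surjective g := ⟨fun x => ⟨Classical.arbitrary _, Subsingleton.elim _ _⟩⟩
  have : IsClosedImmersion g := IsClosedImmersion.of_isPreimmersion g (by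
    rw [hsurj.surj.range_eq]; exact isClosed_univ)
  have : IsIso g := isIso_of_isClosedImmersion_of_surjective g
  let E : CommRingCat.of K ≅ (Spec (CommRingCat.of K)).residueField y :=
    { hom := Spec.preimage g
      inv := Spec.preimage (inv g)
      hom_inv_id := Spec.map_injective (by rw [Spec.map_comp, Spec.map_preimage, Spec.map_preimage, IsIso.inv_hom_id, Spec.map_id])
      inv_hom_id := Spec.map_injective (by rw [Spec.map_comp, Spec.map_preimage, Spec.map_preimage, IsIso.hom_inv_id, Spec.map_id]) }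
  have : IsAlgClosed ((Spec (CommRingCat.of K)).residueField y) :=
    IsAlgClosed.of_ringEquiv K _ E.commRingCatIsoToRingEquiv
  let A := AlgebraicClosure ((Spec (CommRingCat.of K)).residueField y)
  have hbij : Function.Bijective (algebraMap ((Spec (CommRingCat.of K)).residueField y) A) :=
    IsAlgClosed.algebraMap_bijective_of_isIntegral
  have : IsIso (CommRingCat.ofHom (algebraMap ((Spec (CommRingCat.of K)).residueField y) A)) :=
    (RingEquiv.ofBijective _ hbij).toCommRingCatIso.isIso_hom
  have : IsIso (Red.geomPt y) := inferInstanceAs (IsIso (Spec.map _ ≫ g))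
  exact this

/-- The fibre of a maximal torus at a geometric point is a maximal torus. -/
theorem isMaximalTorus_geomFibre {T G : Over S} [GrpObj T] [GrpObj G] (i : T ⟶ G) (hi : Red.IsMaximalTorus i)
    (s : S) : Red.IsMaximalTorus ((Over.pullback (Red.geomPt s)).map i) := by
  obtain ⟨him, hmono, hT, hmax⟩ := hi
  refine ⟨isMonHom_bcMap _ i, inferInstance, AbSch51.TorusToProper.isTorus_bc _ hT, fun y T' _ j _ _ f hT' hfj => ?_⟩
  let p := Red.geomPt s
  let q := Red.geomPt y
  haveI : IsIso q := isIso_geomPt y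
  let r := inv q
  have hee : ∀ X : Over S, ∃ ee : Red.bc r (Red.bc q (Red.bc p X)) ⟶ Red.bc p X,
      ee.left = pullback.fst _ r ≫ pullback.fst _ q := fun X =>
    ⟨Over.homMk (pullback.fst _ r ≫ pullback.fst _ q) (by
      show (pullback.fst (Red.bc q (Red.bc p X)).hom r ≫ pullback.fst (Red.bc p X).hom q) ≫ (Red.bc p X).hom =
        (Red.bc r (Red.bc q (Red.bc p X))).hom
      rw [Category.assoc, pullback.condition, ← Category.assoc,
        show pullback.snd (Red.bc p X).hom q = (Red.bc q (Red.bc p X)).hom from rfl, pullback.condition,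
        Category.assoc, IsIso.inv_hom_id, Category.comp_id]
      rfl), rfl⟩
  choose ee hee using hee
  have heeiso : ∀ X : Over S, IsIso (ee X) := fun X => by
    have : IsIso ((CategoryTheory.Over.forget _).map (ee X)) := by
      show IsIso (ee X).left
      rw [hee]; infer_instance
    exact isIso_of_reflects_iso (ee X) (CategoryTheory.Over.forget _)
  have heem : ∀ (X : Over S) [GrpObj X], IsMonHom (ee X) := fun X _ => isMonHom_of_pts _ fun Y a b => by
    let e : Y ≅ (Over.map q).obj ((Over.map r).obj Y) := Over.isoMk (Iso.refl _) (by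
      show 𝟙 _ ≫ (Y.hom ≫ r) ≫ q = Y.hom
      rw [Category.id_comp, Category.assoc, IsIso.inv_hom_id, Category.comp_id])
    have hx : ∀ x : Y ⟶ Red.bc r (Red.bc q (Red.bc p X)), x ≫ ee X = e.hom ≫ bcTr q (bcTr r x) := fun x => by
      ext : 1
      rw [Over.comp_left, Over.comp_left, hee, bcTr_left, bcTr_left]
      show _ = 𝟙 _ ≫ (x.left ≫ pullback.fst _ r) ≫ pullback.fst _ q
      simp
    rw [hx, hx, hx, bcTr_mul, bcTr_mul, MonObj.comp_mul]
  haveI := heeiso T
  haveI := heeiso G
  haveI := heem T
  haveI := heem G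
  have := isMonHom_bcMap p i
  have := isMonHom_bcMap q ((Over.pullback p).map i)
  have hnat : (Over.pullback r).map ((Over.pullback q).map ((Over.pullback p).map i)) ≫ ee G = ee T ≫ (Over.pullback p).map i := by
    ext : 1
    rw [Over.comp_left, Over.comp_left, hee, hee]
    rw [← Category.assoc, ← (DiagRig.isPullback_bcMap r ((Over.pullback q).map ((Over.pullback p).map i))).w,
      Category.assoc, ← (DiagRig.isPullback_bcMap q ((Over.pullback p).map i)).w, Category.assoc]
  let f'' : Red.bc p T ⟶ Red.bc r T' := inv (ee T) ≫ (Over.pullback r).map f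
  let j'' : Red.bc r T' ⟶ Red.bc p G := (Over.pullback r).map j ≫ ee G
  have := isMonHom_bcMap r j
  have : IsMonHom j'' := inferInstance
  have : Mono j'' := inferInstance
  have hfj' : f'' ≫ j'' = (Over.pullback p).map i := by
    simp only [f'', j'', Category.assoc]
    rw [← Functor.map_comp_assoc, hfj, hnat, IsIso.inv_hom_id_assoc]
  have hiso : IsIso f'' := hmax s (Red.bc r T') j'' f'' (AbSch51.TorusToProper.isTorus_bc r hT') hfj'
  have : IsIso ((Over.pullback r).map f) := by
    have e : (Over.pullback r).map f = ee T ≫ f'' := by simp [f'']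
    rw [e]
    exact IsIso.comp_isIso' (heeiso T) hiso
  have : IsIso ((Over.pullback r).map f).left :=
    inferInstanceAs (IsIso ((CategoryTheory.Over.forget _).map ((Over.pullback r).map f)))
  have : IsIso f.left := by
    have sq := DiagRig.isPullback_bcMap r f
    have : IsIso (pullback.fst (Red.geomFibre y (Red.bc p T)).hom r ≫ f.left) := by rw [sq.w]; infer_instance
    exact IsIso.of_isIso_comp_left (pullback.fst (Red.geomFibre y (Red.bc p T)).hom r) f.left
  have : IsIso ((CategoryTheory.Over.forget _).map f) := ‹IsIso f.left›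
  exact isIso_of_reflects_iso f (CategoryTheory.Over.forget _)

/-- Centralisers commute with base change. -/
theorem isCentralizerOf_bc {S' : Scheme.{u}} (p : S' ⟶ S) {H G Z : Over S} [GrpObj H] [GrpObj G] [GrpObj Z]
    (i : H ⟶ G) (c : Z ⟶ G) (hc : Red.IsCentralizerOf i c) :
    Red.IsCentralizerOf ((Over.pullback p).map i) ((Over.pullback p).map c) := by
  obtain ⟨hm, hmono, hpts⟩ := hc
  refine ⟨isMonHom_bcMap p c, inferInstance, fun X g => ⟨fun ⟨z, hz⟩ X' x h => ?_, fun hg => ?_⟩⟩
  · refine bcTr_injective p ?_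
    rw [bcTr_mul, bcTr_mul, bcTr_comp, bcTr_map]
    exact (hpts _ (bcTr p g)).mp ⟨bcTr p z, by rw [← bcTr_map, hz]⟩ _ ((Over.map p).map x) (bcTr p h)
  · obtain ⟨z, hz⟩ := (hpts _ (bcTr p g)).mpr fun X' x h => by
      let X₀ : Over S' := Over.mk (x.left ≫ X.hom)
      let e : (Over.map p).obj X₀ ≅ X' := Over.isoMk (Iso.refl _) (by
        show 𝟙 _ ≫ X'.hom = (x.left ≫ X.hom) ≫ p
        rw [Category.id_comp, Category.assoc, ← Over.w x]
        rfl)
      let x₀ : X₀ ⟶ X := Over.homMk x.left
      have ex : (Over.map p).map x₀ = e.hom ≫ x := by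
        ext : 1
        show _ = 𝟙 _ ≫ x.left
        rw [Category.id_comp]
        rfl
      have h1 := congrArg (bcTr p) (hg X₀ x₀ (bcUn p (e.hom ≫ h)))
      rw [bcTr_mul, bcTr_mul, bcTr_comp, bcTr_map, bcTr_bcUn, ex, Category.assoc, Category.assoc,
        ← MonObj.comp_mul, ← MonObj.comp_mul] at h1
      exact (cancel_epi e.hom).mp h1
    exact ⟨bcUn p z, bcTr_injective p (by rw [bcTr_map, bcTr_bcUn, hz])⟩

/-- The centraliser of a torus in a smooth separated group. -/
theorem exists_centralizer {H G : Over S} [GrpObj H] [GrpObj G] [Smooth G.hom] [IsSeparated G.hom]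
    (hH : Red.IsTorus H) (i : H ⟶ G) [IsMonHom i] :
    ∃ (Z : Over S) (_ : GrpObj Z) (z : Z ⟶ G), Red.IsCentralizerOf i z ∧ IsClosedImmersion z.left ∧ Smooth Z.hom := by
  obtain ⟨T, j, hj, hs, hT⟩ := exists_transporter i i (splitFpqc_of_multTypeFT H (multTypeFT_of_torus hH))
  have : Mono j := Over.mono_of_mono_left j
  have hiff : ∀ (X : Over S) (g : X ⟶ G), (∃ z : X ⟶ T, z ≫ j = g) ↔
      ∀ (X' : Over S) (x : X' ⟶ X) (h : X' ⟶ H), (x ≫ g) * (h ≫ i) = (h ≫ i) * (x ≫ g) := fun X g => by
    rw [hT]
    exact forall_congr' fun X' => forall_congr' fun x => forall_congr' fun h => mul_inv_eq_iff_eq_mul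
  have hone : ∀ X, ∃ z : X ⟶ T, z ≫ j = (1 : X ⟶ G) := fun X => (hiff X 1).mpr fun X' x h => by
    rw [MonObj.comp_one, _root_.one_mul, _root_.mul_one]
  have hmul : ∃ z : T ⊗ T ⟶ T, z ≫ j = (fst T T ≫ j) * (snd T T ≫ j) := (hiff _ _).mpr fun X' x h => by
    rw [MonObj.comp_mul, ← Category.assoc, ← Category.assoc]
    have h1 := (hiff X' ((x ≫ fst T T) ≫ j)).mp ⟨_, rfl⟩ X' (𝟙 X') h
    have h2 := (hiff X' ((x ≫ snd T T) ≫ j)).mp ⟨_, rfl⟩ X' (𝟙 X') h
    rw [Category.id_comp] at h1 h2
    exact Commute.mul_left h1 h2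
  have hinv : ∃ z : T ⟶ T, z ≫ j = j⁻¹ := (hiff _ _).mpr fun X' x h => by
    rw [GrpObj.comp_inv]
    exact Commute.inv_left ((hiff T j).mp ⟨𝟙 T, Category.id_comp j⟩ X' x h)
  obtain ⟨inst, hmon⟩ := GrpScheme.SubgroupObj.exists_grpObj j
    (hmul.imp fun z hz => hz.trans (by rw [Hom.mul_def]; congr 1))
    ((hone _).imp fun z hz => hz.trans (by rw [Hom.one_def, toUnit_unique (toUnit _) (𝟙 _), Category.id_comp]))
    (hinv.imp fun z hz => hz.trans (by rw [Hom.inv_def]))
  exact ⟨T, inst, j, ⟨hmon, ‹Mono j›, hiff⟩, hj, hs inferInstance⟩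

end Groth.Agent.MaxTorus
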