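import Groth.Agent.MaxTorus.SubMult
import Groth.Agent.DiagRig.SplitSubMax
import Groth.Agent.GrpScheme.AffineHom
import Groth.Agent.GrpdLib.GrpOver
import Groth.Agent.S0346
import Groth.Agent.S5417
import Groth.Agent.S16615

/-! Products and images of tori over a field; subtori commuting with a maximal one. -/

universe u

open CategoryTheory MonoidalCategory CartesianMonoidalCategory MonObj GrpObj AlgebraicGeometry Limits
open Groth.Agent.RedPts

noncomputable section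

namespace Groth.Agent.MaxTorus

set_option backward.isDefEq.respectTransparency.types false

open DiagRig in
/-- A product of tori over a field is a torus. -/
theorem isTorus_tensor {k : Type u} [Field k] {T R : Over (Spec (CommRingCat.of k))} [GrpObj T] [GrpObj R]
    (hT : Red.IsTorus T) (hR : Red.IsTorus R) : Red.IsTorus (T ⊗ R) := by
  obtain ⟨S₁, f₁, -, hs₁, -, hl₁⟩ := hT
  obtain ⟨S₂, f₂, -, hs₂, -, hl₂⟩ := hR
  obtain ⟨a₁, -⟩ := hs₁.surj (default : PrimeSpectrum k)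
  obtain ⟨a₂, -⟩ := hs₂.surj (default : PrimeSpectrum k)
  obtain ⟨U₁, ha₁, r₁, hr₁⟩ := hl₁ a₁
  obtain ⟨U₂, ha₂, r₂, hr₂⟩ := hl₂ a₂
  have : Subsingleton ↥(Spec (CommRingCat.of k)) := inferInstanceAs (Subsingleton (PrimeSpectrum k))
  obtain ⟨p, -, -⟩ := Scheme.Pullback.exists_preimage_pullback (f := U₁.ι ≫ f₁) (g := U₂.ι ≫ f₂)
    (⟨a₁, ha₁⟩ : U₁) (⟨a₂, ha₂⟩ : U₂) (Subsingleton.elim _ _)
  obtain ⟨W, hW, hpW, -⟩ := exists_isAffineOpen_mem_and_subset (show p ∈ (⊤ : (pullback (U₁.ι ≫ f₁) (U₂.ι ≫ f₂)).Opens) from trivial)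
  let f : (W : Scheme.{u}) ⟶ Spec (CommRingCat.of k) := W.ι ≫ pullback.fst _ _ ≫ U₁.ι ≫ f₁
  have : IsAffine (W : Scheme.{u}) := hW
  have : Nonempty ↥(W : Scheme.{u}) := ⟨⟨p, hpW⟩⟩
  have hsurj : Surjective f := ⟨fun y => ⟨Classical.arbitrary _, Subsingleton.elim _ _⟩⟩
  have hflat : Flat f := inferInstance
  refine ⟨W, f, hflat, hsurj, fun V hV => ?_, fun w => ?_⟩
  · refine ⟨f ⁻¹ᵁ V, (hV.preimage f).isCompact, ?_⟩
    exact Set.image_preimage_eq _ hsurj.surj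
  let g : ((⊤ : (W : Scheme.{u}).Opens) : Scheme.{u}) ⟶ Spec (CommRingCat.of k) := (⊤ : (W : Scheme.{u}).Opens).ι ≫ f
  obtain ⟨e₁⟩ := SplitSub.isSplit_of_comp (U₁.ι ≫ f₁) ((⊤ : (W : Scheme.{u}).Opens).ι ≫ W.ι ≫ pullback.fst _ _) g
    (by simp [g, f]) hr₁
  obtain ⟨e₂⟩ := SplitSub.isSplit_of_comp (U₂.ι ≫ f₂) ((⊤ : (W : Scheme.{u}).Opens).ι ≫ W.ι ≫ pullback.snd _ _) g
    (by simp [g, f, pullback.condition]) hr₂
  let i₁ : Red.bc g T ≅ Red.DS ((⊤ : (W : Scheme.{u}).Opens) : Scheme.{u}) (Fin r₁ → ℤ) := (Grp.forget _).mapIso e₁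
  let i₂ : Red.bc g R ≅ Red.DS ((⊤ : (W : Scheme.{u}).Opens) : Scheme.{u}) (Fin r₂ → ℤ) := (Grp.forget _).mapIso e₂
  have : IsMonHom i₁.hom := e₁.hom.hom.isMonHom_hom
  have : IsMonHom i₂.hom := e₂.hom.hom.isMonHom_hom
  obtain ⟨ψ, hψ₁, hψ₂⟩ := SplitSub.exists_prod_iso g i₁ i₂
  have hm₁ := isMonHom_bcMap g (fst T R)
  have hm₂ := isMonHom_bcMap g (snd T R)
  have hP₁ := DSQuot.isMonHom_DSmap (S := ((⊤ : (W : Scheme.{u}).Opens) : Scheme.{u})) (AddMonoidHom.inl (Fin r₁ → ℤ) (Fin r₂ → ℤ))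
  have hP₂ := DSQuot.isMonHom_DSmap (S := ((⊤ : (W : Scheme.{u}).Opens) : Scheme.{u})) (AddMonoidHom.inr (Fin r₁ → ℤ) (Fin r₂ → ℤ))
  have h12₁ : IsMonHom ((Over.pullback g).map (fst T R) ≫ i₁.hom) := inferInstance
  have h12₂ : IsMonHom ((Over.pullback g).map (snd T R) ≫ i₂.hom) := inferInstance
  have : IsMonHom ψ.hom := isMonHom_of_pts _ fun Y x y => by
    refine d_ext fun m => ?_
    have hdec : ∀ z : Y ⟶ Red.DS _ ((Fin r₁ → ℤ) × (Fin r₂ → ℤ)), dFn z m =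
        dFn (z ≫ Red.DSmap _ (AddMonoidHom.inl _ _)) m.1 * dFn (z ≫ Red.DSmap _ (AddMonoidHom.inr _ _)) m.2 := fun z => by
      rw [DSmap_fn, DSmap_fn, ← d_add]
      simp
    have e₁ := @MonObj.mul_comp _ _ _ _ _ _ _ _ (x ≫ ψ.hom) (y ≫ ψ.hom) _ hP₁
    have e₂ := @MonObj.mul_comp _ _ _ _ _ _ _ _ (x ≫ ψ.hom) (y ≫ ψ.hom) _ hP₂
    rw [hdec, hdec, e₁, e₂]
    simp only [Category.assoc, hψ₁, hψ₂, MonObj.mul_comp]
  let q : ((Fin r₁ → ℤ) × (Fin r₂ → ℤ)) ≃+ (Fin (r₁ + r₂) → ℤ) :=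
    ((LinearEquiv.sumArrowLequivProdArrow (Fin r₁) (Fin r₂) ℤ ℤ).symm ≪≫ₗ
      LinearEquiv.funCongrLeft ℤ ℤ finSumFinEquiv.symm).toAddEquiv
  let F := Red.DSmap ((⊤ : (W : Scheme.{u}).Opens) : Scheme.{u}) q.symm.toAddMonoidHom
  have : IsIso F := by
    have : IsIso ((CategoryTheory.Over.forget _).map F) := DSHom.isIso_DSmap _ q.symm.bijective
    exact isIso_of_reflects_iso F (CategoryTheory.Over.forget _)
  have : IsMonHom F := DSQuot.isMonHom_DSmap _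
  have : IsMonHom (asIso F).hom := ‹IsMonHom F›
  exact ⟨⊤, trivial, r₁ + r₂, ⟨Grp.mkIso' ψ ≪≫ Grp.mkIso' (asIso F)⟩⟩

/-- The image of a torus in a group over an algebraically closed field is a torus. -/
theorem exists_torus_image {k : Type u} [Field k] [IsAlgClosed k] {R G : Over (Spec (CommRingCat.of k))}
    [GrpObj R] [GrpObj G] (hR : Red.IsTorus R) [LocallyOfFiniteType G.hom] (f : R ⟶ G) [IsMonHom f] :
    ∃ (Q : Over (Spec (CommRingCat.of k))) (_ : GrpObj Q) (q : R ⟶ Q) (m : Q ⟶ G),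
      IsMonHom q ∧ IsMonHom m ∧ Mono m ∧ Red.IsTorus Q ∧ q ≫ m = f ∧ Flat q.left ∧ Surjective q.left := by
  have hM := DiagRig.multTypeFT_of_torus hR
  have := DiagRig.multType_isAffineHom R hM
  have := DiagRig.multType_locallyOfFinitePresentation R hM
  obtain ⟨K, _, i, _, hker⟩ := GrpScheme.AffineHom.exists_kernel f
  have : Mono i := GrpdLib.GrpOver.kernel_mono hker
  have : IsSeparated G.hom := GrpdLib.GrpOver.isSeparated_hom G
  have hη : IsClosedImmersion η[G].left := (Groth.Agent.S0346.result _ G).1.mp inferInstance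
  have : IsClosedImmersion i.left :=
    MorphismProperty.of_isPullback (hker.map (Over.forget _)).flip hη
  have hKw : i.left ≫ R.hom = K.hom := Over.w i
  have : LocallyOfFiniteType K.hom := by rw [← hKw]; infer_instance
  have : QuasiCompact K.hom := by rw [← hKw]; infer_instance
  have hK := isMultTypeFT_sub hM i
  obtain ⟨Q, _, q, hq, hquot, -, m, hm, hmm, hqm⟩ :=
    Groth.Agent.S5417.result _ R G (Or.inl inferInstance) f K i hker
  exact ⟨Q, inferInstance, q, m, hq, hm, hmm, Groth.Agent.S16615.result hR i hK q hquot, hqm, hquot.2.1, hquot.1⟩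

/-- Over an algebraically closed field a torus commuting with a torus which is maximal factors through it. -/
theorem factor_of_maximal {k : Type u} [Field k] [IsAlgClosed k] {T R G : Over (Spec (CommRingCat.of k))}
    [GrpObj T] [GrpObj R] [GrpObj G] [LocallyOfFiniteType G.hom] (hT : Red.IsTorus T) (hR : Red.IsTorus R)
    (i : T ⟶ G) [IsMonHom i] (j : R ⟶ G) [IsMonHom j]
    (hmax : ∀ (T' : Over (Spec (CommRingCat.of k))) [GrpObj T'] (j' : T' ⟶ G) [IsMonHom j'] [Mono j']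
      (f : T ⟶ T'), Red.IsTorus T' → f ≫ j' = i → IsIso f)
    (hcomm : ∀ (X : Over (Spec (CommRingCat.of k))) (t : X ⟶ T) (r : X ⟶ R),
      (t ≫ i) * (r ≫ j) = (r ≫ j) * (t ≫ i)) :
    ∃ g : R ⟶ T, g ≫ i = j := by
  let f : T ⊗ R ⟶ G := (fst T R ≫ i) * (snd T R ≫ j)
  have : IsMonHom f := DiagRig.isMonHom_of_pts _ fun X x y => by
    simp only [f, MonObj.comp_mul, ← Category.assoc, MonObj.mul_comp]
    rw [_root_.mul_assoc, _root_.mul_assoc, ← _root_.mul_assoc ((y ≫ fst T R) ≫ i), hcomm, _root_.mul_assoc]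
  obtain ⟨Q, _, q, m, hq, hm, hmm, hQ, hqm, -, -⟩ := exists_torus_image (isTorus_tensor hT hR) f
  let a : T ⟶ Q := lift (𝟙 T) 1 ≫ q
  have ha : a ≫ m = i := by
    simp [a, f, hqm, MonObj.comp_mul]
  haveI := hmax Q m a hQ ha
  refine ⟨(lift 1 (𝟙 R) ≫ q) ≫ inv a, ?_⟩
  have hi : inv a ≫ i = m := by rw [IsIso.inv_comp_eq, ha]
  simp [Category.assoc, hi, f, hqm, MonObj.comp_mul]

end Groth.Agent.MaxTorus
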