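import Groth.Agent.MaxTorus.Image
import Groth.Agent.S6060

/-! Factoring a homomorphism of split tori through a monomorphism, near a point. -/

universe u

open CategoryTheory MonoidalCategory CartesianMonoidalCategory MonObj GrpObj AlgebraicGeometry Limits
open Groth.Agent.RedPts

noncomputable section

namespace Groth.Agent.MaxTorus

set_option backward.isDefEq.respectTransparency.types false

open DiagRig DiagRig.DSQuot in
/-- A split torus which factors at a geometric point through another one, commuting with it, factors near that point. -/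
theorem exists_local_factor {U : Scheme.{u}} (z : U) {G T R : Over U} [GrpObj G] [GrpObj T] [GrpObj R]
    [LocallyOfFinitePresentation G.hom] [QuasiCompact G.hom] [QuasiSeparated G.hom]
    {r₁ r₂ : ℕ} (e₁ : T ≅ Red.DS U (Fin r₁ → ℤ)) [IsMonHom e₁.hom]
    (e₂ : R ≅ Red.DS U (Fin r₂ → ℤ)) [IsMonHom e₂.hom]
    (i : T ⟶ G) [IsMonHom i] [Mono i] (j : R ⟶ G) [IsMonHom j]
    (hcomm : ∀ (X : Over U) (t : X ⟶ T) (r : X ⟶ R), (t ≫ i) * (r ≫ j) = (r ≫ j) * (t ≫ i))
    {L : Type u} [Field L] (c : Spec (CommRingCat.of L) ⟶ U) (hc : ∀ y, c y = z)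
    (hz : ∀ (Y : Over (Spec (CommRingCat.of L))) (r : (Over.map c).obj Y ⟶ R), ∃ t, t ≫ i = r ≫ j) :
    ∃ V : U.Opens, z ∈ V ∧ ∀ (Y : Over U) (a : Y.left ⟶ (V : Scheme.{u})), a ≫ V.ι = Y.hom →
      ∀ r : Y ⟶ R, ∃ t : Y ⟶ T, t ≫ i = r ≫ j := by
  have : IsMonHom e₁.inv := inferInstance
  have : IsMonHom e₂.inv := inferInstance
  have hRc : ∀ (X : Over U) (x y : X ⟶ R), x * y = y * x := fun X x y => by
    have h : (x ≫ e₂.hom) * (y ≫ e₂.hom) = (y ≫ e₂.hom) * (x ≫ e₂.hom) := d_ext fun m => by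
      rw [d_mul, d_mul, _root_.mul_comm]
    rw [← cancel_mono e₂.hom, @MonObj.mul_comp _ _ _ _ _ _ _ _ x y e₂.hom ‹IsMonHom e₂.hom›,
      @MonObj.mul_comp _ _ _ _ _ _ _ _ y x e₂.hom ‹IsMonHom e₂.hom›]
    exact h
  obtain ⟨d₁, hd₁⟩ := exists_dsBC c (Fin r₁ → ℤ)
  obtain ⟨d₂, hd₂⟩ := exists_dsBC c (Fin r₂ → ℤ)
  let D₁ : Red.bc c (Red.DS U (Fin r₁ → ℤ)) ≅ Red.DS (Spec (CommRingCat.of L)) (Fin r₁ → ℤ) :=
    (Grp.forget _).mapIso d₁
  let D₂ : Red.bc c (Red.DS U (Fin r₂ → ℤ)) ≅ Red.DS (Spec (CommRingCat.of L)) (Fin r₂ → ℤ) :=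
    (Grp.forget _).mapIso d₂
  have : IsMonHom D₁.hom := d₁.hom.hom.isMonHom_hom
  have : IsMonHom D₂.inv := d₂.inv.hom.isMonHom_hom
  have := isMonHom_bcMap c i
  have := isMonHom_bcMap c j
  have := isMonHom_bcMap c e₁.hom
  have := isMonHom_bcMap c e₂.inv
  obtain ⟨t₀, ht₀⟩ := hz (Red.bc c R) (bcTr c (𝟙 _))
  let gz : Red.bc c R ⟶ Red.bc c T := bcUn c t₀
  have hgz : gz ≫ (Over.pullback c).map i = (Over.pullback c).map j := by
    refine bcTr_injective c ?_
    rw [bcTr_map, bcTr_bcUn, ht₀, ← Category.id_comp ((Over.pullback c).map j), bcTr_map]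
  have : Mono ((Over.pullback c).map i) := inferInstance
  have hgm : IsMonHom gz := by
    refine isMonHom_of_pts _ fun Y x y => ?_
    rw [← cancel_mono ((Over.pullback c).map i), Category.assoc, hgz, MonObj.mul_comp, MonObj.mul_comp,
      Category.assoc, Category.assoc, hgz]
  let w : Red.DS (Spec (CommRingCat.of L)) (Fin r₂ → ℤ) ⟶ Red.DS (Spec (CommRingCat.of L)) (Fin r₁ → ℤ) :=
    D₂.inv ≫ (Over.pullback c).map e₂.inv ≫ gz ≫ (Over.pullback c).map e₁.hom ≫ D₁.hom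
  have : Subsingleton ↥(Spec (CommRingCat.of L)) := inferInstanceAs (Subsingleton (PrimeSpectrum L))
  obtain ⟨V₀, hx₀, φ, hφ⟩ := DSHom.exists_localHom w (MaxSplit.fg_fin r₁) (default : PrimeSpectrum L)
  have hw : w = Red.DSmap _ φ := by
    have := hφ (Red.DS _ (Fin r₂ → ℤ)) (𝟙 _) fun y _ => Subsingleton.elim (α := ↥(Spec (CommRingCat.of L))) _ y ▸ hx₀
    simpa using this
  have := DSQuot.isMonHom_DSmap (S := U) φ
  let f : R ⟶ T := e₂.hom ≫ Red.DSmap U φ ≫ e₁.inv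
  have : IsMonHom f := inferInstance
  have hfc : (Over.pullback c).map f = gz := by
    have hn := SplitImage.dsBC_natural c φ d₂ hd₂ d₁ hd₁
    have hn' : (Over.pullback c).map (Red.DSmap U φ) = D₂.hom ≫ Red.DSmap _ φ ≫ D₁.inv := by
      rw [show Red.DSmap (Spec (CommRingCat.of L)) φ ≫ D₁.inv = D₂.inv ≫ (Over.pullback c).map (Red.DSmap U φ) from hn,
        Iso.hom_inv_id_assoc]
    simp only [f, Functor.map_comp, hn', ← hw, w, Category.assoc, Iso.hom_inv_id_assoc, Iso.hom_inv_id,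
      Category.comp_id, Iso.map_hom_inv_id, Iso.map_hom_inv_id_assoc]
  have hcomm' : ∀ (X : Over U) (x y : X ⟶ R), (x ≫ f ≫ i) * (y ≫ j) = (y ≫ j) * (x ≫ f ≫ i) := fun X x y => by
    rw [← Category.assoc]; exact hcomm X (x ≫ f) y
  let d : R ⟶ G := (f ≫ i)⁻¹ * j
  have : IsMonHom d := isMonHom_of_pts _ fun X x y => by
    have hc' : Commute (x ≫ f ≫ i) (y ≫ j) := hcomm' X x y
    have hc'' : Commute (y ≫ f ≫ i) (x ≫ j) := hcomm' X y x
    simp only [d, MonObj.comp_mul, GrpObj.comp_inv, MonObj.mul_comp, _root_.mul_inv_rev]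
    have key := hc''.inv_left
    calc (y ≫ f ≫ i)⁻¹ * (x ≫ f ≫ i)⁻¹ * (x ≫ j * y ≫ j)
        = (y ≫ f ≫ i)⁻¹ * ((x ≫ f ≫ i)⁻¹ * (x ≫ j)) * (y ≫ j) := by group
      _ = ((x ≫ f ≫ i)⁻¹ * (x ≫ j)) * ((y ≫ f ≫ i)⁻¹ * (y ≫ j)) := by
        have hxx : Commute (y ≫ f ≫ i) (x ≫ f ≫ i) := by
          have hT : Commute ((y ≫ f) ≫ e₁.hom) ((x ≫ f) ≫ e₁.hom) := d_ext fun m => by
            rw [d_mul, d_mul, _root_.mul_comm]
          have hT' : (y ≫ f) * (x ≫ f) = (x ≫ f) * (y ≫ f) := by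
            rw [← cancel_mono e₁.hom, @MonObj.mul_comp _ _ _ _ _ _ _ _ (y ≫ f) (x ≫ f) e₁.hom ‹IsMonHom e₁.hom›,
              @MonObj.mul_comp _ _ _ _ _ _ _ _ (x ≫ f) (y ≫ f) e₁.hom ‹IsMonHom e₁.hom›]; exact hT
          have := congrArg (· ≫ i) hT'
          simp only [MonObj.mul_comp, Category.assoc] at this
          exact this
        rw [((hxx.inv_left.inv_right).mul_right key).eq]
        simp only [_root_.mul_assoc]
  have hdL : ∀ (Y : Over (Spec (CommRingCat.of L))) (r : (Over.map c).obj Y ⟶ R), r ≫ d = 1 := fun Y r => by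
    have h1 : r ≫ f ≫ i = r ≫ j := by
      have e := congrArg (fun m => bcTr c (bcUn c r ≫ m ≫ (Over.pullback c).map i)) hfc
      simp only [hgz, bcTr_map, ← Functor.map_comp, bcTr_bcUn] at e
      exact e
    simp only [d, MonObj.comp_mul, GrpObj.comp_inv, h1, inv_mul_cancel]
  have hdz : ∀ (Y : Over U) (g : Y ⟶ R) (zz : Y.left ⟶ Spec (U.residueField z)),
      zz ≫ U.fromSpecResidueField z = Y.hom → g ≫ d = 1 := by
    intro Y g zz hzz
    let χ := Scheme.SpecToEquivOfField L U c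
    have hk : c = Spec.map χ.2 ≫ U.fromSpecResidueField χ.1 :=
      ((Scheme.SpecToEquivOfField _ _).symm_apply_apply c).symm
    have hχ : χ.1 = z := by
      rw [← hc (default : PrimeSpectrum L), hk, Scheme.Hom.comp_apply, Scheme.fromSpecResidueField_apply]
    obtain ⟨ψ, hψ⟩ : ∃ ψ : U.residueField z ⟶ CommRingCat.of L, Spec.map ψ ≫ U.fromSpecResidueField z = c := by
      rw [← hχ]
      exact ⟨χ.2, hk.symm⟩
    have : Flat (Spec.map ψ) := flat_specMap_field _ _ ψ.hom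
    have : Surjective (Spec.map ψ) := surjective_specMap_field _ _ ψ.hom
    let Y' : Over (Spec (CommRingCat.of L)) := Over.mk (pullback.snd zz (Spec.map ψ))
    let p : (Over.map c).obj Y' ⟶ Y := Over.homMk (pullback.fst zz (Spec.map ψ)) (by
      show pullback.fst zz (Spec.map ψ) ≫ Y.hom = pullback.snd zz (Spec.map ψ) ≫ c
      rw [← hzz, pullback.condition_assoc, hψ])
    have hcE : EffectiveEpi p.left := inferInstanceAs (EffectiveEpi (pullback.fst zz (Spec.map ψ)))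
    refine GrpdLib.GrpOver.cancel_left p ?_
    rw [MonObj.comp_one, ← Category.assoc]
    exact hdL Y' _
  let a₁ : R ⟶ R ⊗ G := lift (𝟙 R) 1
  let a₂ : R ⟶ R ⊗ G := lift (𝟙 R) d
  have : IsMonHom a₁ := isMonHom_of_pts _ fun X x y => by
    refine CartesianMonoidalCategory.hom_ext _ _ ?_ ?_ <;> simp [a₁, MonObj.mul_comp, MonObj.comp_mul]
  have : IsMonHom a₂ := isMonHom_of_pts _ fun X x y => by
    refine CartesianMonoidalCategory.hom_ext _ _ ?_ ?_ <;> simp [a₂, MonObj.mul_comp, MonObj.comp_mul]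
  have hMR : SGA3x.IsMultTypeFT R := by
    haveI : IsMonHom e₂.symm.hom := inferInstanceAs (IsMonHom e₂.inv)
    exact isMultTypeFT_of_iso e₂.symm (DSQuot.isMultTypeFT_DS U (Fin r₂ → ℤ) (MaxSplit.fg_fin r₂))
  have := multType_isAffineHom R hMR
  have := multType_locallyOfFinitePresentation R hMR
  have hRG : LocallyOfFinitePresentation (R ⊗ G).hom ∧ QuasiCompact (R ⊗ G).hom ∧ QuasiSeparated (R ⊗ G).hom := by
    refine ⟨?_, ?_, ?_⟩
    · show LocallyOfFinitePresentation (pullback.fst R.hom G.hom ≫ R.hom); infer_instance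
    · show QuasiCompact (pullback.fst R.hom G.hom ≫ R.hom); infer_instance
    · show QuasiSeparated (pullback.fst R.hom G.hom ≫ R.hom); infer_instance
  have hsec : ∀ a : R ⟶ R ⊗ G, a ≫ fst R G = 𝟙 R → IsImmersion a.left := fun a ha => by
    have : IsImmersion (a.left ≫ (fst R G).left) := by
      rw [← Over.comp_left, ha]; exact inferInstanceAs (IsImmersion (𝟙 R.left))
    exact IsImmersion.of_comp a.left (fst R G).left
  have : IsImmersion a₁.left := hsec a₁ (lift_fst _ _)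
  have : IsImmersion a₂.left := hsec a₂ (lift_fst _ _)
  let k := U.fromSpecResidueField z
  have heq : (Over.pullback k).map a₂ = (Over.pullback k).map a₁ := by
    rw [← Category.id_comp ((Over.pullback k).map a₂), ← Category.id_comp ((Over.pullback k).map a₁)]
    refine bcTr_injective k ?_
    rw [bcTr_map, bcTr_map]
    refine CartesianMonoidalCategory.hom_ext _ _ ?_ ?_
    · simp [a₁, a₂]
    · simp only [a₁, a₂, Category.assoc, lift_snd, MonObj.comp_one]
      exact hdz _ _ (Red.bc k R).hom rfl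
  obtain ⟨V, hzV, ψ, hψ⟩ := Groth.Agent.S6060.result (R ⊗ G) R R (Or.inr hRG) hMR hMR a₁ a₂ z
    (fun X g h => by
      refine bcTr_injective k ?_
      rw [bcTr_mul, bcTr_mul, bcTr_map]
      refine CartesianMonoidalCategory.hom_ext _ _ ?_ ?_
      · simp only [a₁, MonObj.mul_comp, Category.assoc, lift_fst, Category.comp_id]
        exact hRc _ _ _
      · simp [a₁, MonObj.mul_comp])
    ⟨Iso.refl _, by rw [Iso.refl_hom, Category.id_comp, heq]⟩
  refine ⟨V, hzV, fun Y a ha r => ⟨r ≫ f, ?_⟩⟩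
  let Y₀ : Over (V : Scheme.{u}) := Over.mk a
  let e : (Over.map V.ι).obj Y₀ ≅ Y := Over.isoMk (Iso.refl _) (by simpa [Y₀] using ha.symm)
  have hd1 : (e.hom ≫ r) ≫ d = 1 := by
    have h1 := congrArg (fun m => bcTr V.ι (bcUn V.ι (e.hom ≫ r) ≫ ψ.inv ≫ m)) hψ
    simp only [Iso.inv_hom_id_assoc, bcTr_map, bcTr_bcUn] at h1
    rw [← Category.assoc (bcUn V.ι (e.hom ≫ r)) ψ.inv, bcTr_map] at h1
    have h2 := congrArg (· ≫ snd R G) h1
    simp only [a₁, a₂, Category.assoc, lift_snd, MonObj.comp_one] at h2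
    rw [Category.assoc]
    exact h2
  have hd2 : r ≫ d = 1 := by rw [← cancel_epi e.hom, ← Category.assoc, hd1, MonObj.comp_one]
  simp only [d, MonObj.comp_mul, GrpObj.comp_inv, inv_mul_eq_one] at hd2
  rw [Category.assoc]
  exact hd2

end Groth.Agent.MaxTorus
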